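import Groth.Agent.Lib.FSFlat3.Converse
import Groth.Agent.Lib.AdicSmooth.SmallExt
import Groth.Agent.S9316
import Groth.Agent.S4535
import Groth.Agent.S4537
import Groth.Agent.S4512
import Groth.Agent.S4573

/-!
Adic formal smoothness of local homomorphisms: flatness plus geometric regularity of the closed fibre.
-/

set_option autoImplicit false
set_option linter.style.haveILetI false

universe u

open IsLocalRing TensorProduct

namespace Groth.Agent.FSFlat3

variable {A B : Type u} [CommRing A] [IsLocalRing A] [IsNoetherianRing A]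
  [CommRing B] [IsLocalRing B] [IsNoetherianRing B] [Algebra A B] [IsLocalHom (algebraMap A B)]

theorem sup_pow_le {R : Type u} [CommRing R] (I L : Ideal R) (e : ℕ) : (I ⊔ L) ^ e ≤ I ⊔ L ^ e := by
  induction e with
  | zero => simp
  | succ e ih =>
    rw [pow_succ]
    refine (Ideal.mul_mono ih le_rfl).trans ?_
    rw [Ideal.sup_mul, Ideal.mul_sup (L ^ e), ← pow_succ]
    have h1 : I * (I ⊔ L) ≤ I := Ideal.mul_le_left
    have h2 : L ^ e * I ≤ I := Ideal.mul_le_right
    exact sup_le (h1.trans le_sup_left) (sup_le (h2.trans le_sup_left) le_sup_right)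

/-- Lifting against extensions killed by the maximal ideal of the base. -/
def FibreLifts (A B : Type u) [CommRing A] [IsLocalRing A] [CommRing B] [IsLocalRing B] [Algebra A B] : Prop :=
  ∀ (E : Type u) [CommRing E] [Algebra A E], (∀ a ∈ maximalIdeal A, algebraMap A E a = 0) →
    ∀ (J : Ideal E), J ^ 2 = ⊥ → ∀ ψ : B →ₐ[A] E ⧸ J, (∃ n : ℕ, ∀ x ∈ maximalIdeal B ^ n, ψ x = 0) →
      ∃ χ : B →ₐ[A] E, (Ideal.Quotient.mkₐ A J).comp χ = ψ

/-- In an extension of a flat module, elements of `m P` killed in the quotient vanish. -/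
theorem eq_zero_of_mem_map {P Q : Type u} [CommRing P] [Algebra A P] [CommRing Q] [Algebra A Q] [Module.Flat A Q]
    (π : P →ₐ[A] Q) (hπ : Function.Surjective π)
    (hkill : ∀ a ∈ maximalIdeal A, ∀ y, π y = 0 → a • y = 0)
    {x : P} (hx : x ∈ (maximalIdeal A).map (algebraMap A P)) (hx0 : π x = 0) : x = 0 := by
  obtain ⟨n, a, p, rfl⟩ : ∃ (n : ℕ) (a : Fin n → maximalIdeal A) (p : Fin n → P), x = ∑ i, (a i : A) • p i := by
    have h1 : x ∈ maximalIdeal A • (⊤ : Submodule A P) := by rw [Ideal.smul_top_eq_map]; exact hx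
    refine Submodule.smul_induction_on h1 (fun r hr y _ => ⟨1, fun _ => ⟨r, hr⟩, fun _ => y, by simp⟩) ?_
    rintro y z ⟨n, a, p, rfl⟩ ⟨n', a', p', rfl⟩
    exact ⟨n + n', Fin.append a a', Fin.append p p', by simp [Fin.sum_univ_add]⟩
  have h0 : ∑ i, (a i : A) • π (p i) = 0 := by simpa [map_sum] using hx0
  obtain ⟨l, c, y, hy, hc⟩ := Module.Flat.isTrivialRelation_of_sum_smul_eq_zero (R := A) (M := Q) (f := fun i => (a i : A)) (x := fun i => π (p i)) (by convert h0)
  choose Y hY using fun j => hπ (y j)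
  have h1 : ∀ i, (a i : A) • (p i - ∑ j, c i j • Y j) = 0 := fun i => hkill _ (a i).2 _ (by
    rw [map_sub, map_sum, sub_eq_zero]
    refine (hy i).trans ?_
    exact Finset.sum_congr rfl fun j _ => by rw [map_smul, hY j])
  rw [Finset.sum_congr rfl fun i _ => show (a i : A) • p i = ∑ j, ((a i : A) * c i j) • Y j by
    have h2 := h1 i
    rw [smul_sub, sub_eq_zero] at h2
    rw [h2, Finset.smul_sum]
    exact Finset.sum_congr rfl fun j _ => (mul_smul _ _ _).symm]
  rw [Finset.sum_comm]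
  exact Finset.sum_eq_zero fun j _ => by rw [← Finset.sum_smul, hc j, zero_smul]

omit [IsNoetherianRing B] [IsLocalHom (algebraMap A B)] in
/-- Lifting along a square-zero extension killed by the maximal ideal of the base, with flat target. -/
theorem exists_lift_extension {P Q : Type u} [CommRing P] [Algebra A P] [CommRing Q] [Algebra A Q] [Module.Flat A Q]
    (π : P →ₐ[A] Q) (hπ : Function.Surjective π)
    (hkill : ∀ a ∈ maximalIdeal A, ∀ y, π y = 0 → a • y = 0)
    (hsq : ∀ y z, π y = 0 → π z = 0 → y * z = 0) (H : FibreLifts A B) (g₀ : B →ₐ[A] Q) (n : ℕ)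
    (hg₀ : ∀ x ∈ maximalIdeal B ^ n, g₀ x ∈ (maximalIdeal A).map (algebraMap A Q)) :
    ∃ s : B →ₐ[A] P, π.comp s = g₀ := by
  set 𝔮 := (maximalIdeal A).map (algebraMap A Q) with h𝔮
  set 𝔭 := (maximalIdeal A).map (algebraMap A P) with h𝔭
  have hmap : 𝔭.map π.toRingHom = 𝔮 := by
    rw [h𝔭, h𝔮, Ideal.map_map, show π.toRingHom.comp (algebraMap A P) = algebraMap A Q from π.comp_algebraMap]
  let π₀ : (P ⧸ 𝔭) →ₐ[A] (Q ⧸ 𝔮) := Ideal.quotientMapₐ 𝔮 π (Ideal.map_le_iff_le_comap.1 hmap.le)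
  have hπ₀ : Function.Surjective π₀ := fun y => by
    obtain ⟨z, rfl⟩ := Ideal.Quotient.mk_surjective y
    obtain ⟨w, rfl⟩ := hπ z
    exact ⟨Ideal.Quotient.mk _ w, rfl⟩
  have hK : ∀ y, π₀ y = 0 → ∃ w : P, π w = 0 ∧ Ideal.Quotient.mk 𝔭 w = y := by
    intro y hy
    obtain ⟨z, rfl⟩ := Ideal.Quotient.mk_surjective y
    have h1 : π z ∈ 𝔭.map π.toRingHom := by
      rw [hmap]; exact Ideal.Quotient.eq_zero_iff_mem.1 hy
    obtain ⟨w, hw, hwz⟩ := (Ideal.mem_map_iff_of_surjective π.toRingHom hπ).1 h1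
    refine ⟨z - w, by rw [map_sub, sub_eq_zero]; exact hwz.symm, ?_⟩
    rw [map_sub, Ideal.Quotient.eq_zero_iff_mem.2 hw, sub_zero]
  have hK2 : RingHom.ker π₀.toRingHom ^ 2 = ⊥ := by
    rw [eq_bot_iff, pow_two, Ideal.mul_le]
    intro y hy z hz
    obtain ⟨w, hw, rfl⟩ := hK y hy
    obtain ⟨w', hw', rfl⟩ := hK z hz
    rw [← map_mul, hsq w w' hw hw', map_zero]
    exact zero_mem _
  let e₀ := Ideal.quotientKerAlgEquivOfSurjective hπ₀
  obtain ⟨χ, hχ⟩ := H (P ⧸ 𝔭) (fun a ha => Ideal.Quotient.eq_zero_iff_mem.2 (Ideal.mem_map_of_mem _ ha))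
    (RingHom.ker π₀.toRingHom) hK2 (e₀.symm.toAlgHom.comp ((Ideal.Quotient.mkₐ A 𝔮).comp g₀)) ⟨n, fun x hx => by
      show e₀.symm (Ideal.Quotient.mk 𝔮 (g₀ x)) = 0
      rw [Ideal.Quotient.eq_zero_iff_mem.2 (hg₀ x hx), map_zero]⟩
  have hχ' : ∀ b, π₀ (χ b) = Ideal.Quotient.mk 𝔮 (g₀ b) := fun b =>
    (congrArg e₀ (AlgHom.congr_fun hχ b)).trans (e₀.apply_symm_apply _)
  let Φ : P →ₐ[A] Q × (P ⧸ 𝔭) := π.prod (Ideal.Quotient.mkₐ A 𝔭)
  have hΦ : Function.Injective Φ := by
    rw [injective_iff_map_eq_zero]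
    intro y hy
    exact eq_zero_of_mem_map π hπ hkill (Ideal.Quotient.eq_zero_iff_mem.1 (congrArg Prod.snd hy)) (congrArg Prod.fst hy)
  have hg : ∀ b, g₀.prod χ b ∈ Φ.range := by
    intro b
    obtain ⟨z, hz⟩ := hπ (g₀ b)
    obtain ⟨w, hw, hwy⟩ := hK (χ b - Ideal.Quotient.mk 𝔭 z) (by
      rw [map_sub, hχ', sub_eq_zero]
      exact (congrArg (Ideal.Quotient.mk 𝔮) hz).symm)
    refine ⟨z + w, Prod.ext ?_ ?_⟩
    · show π (z + w) = g₀ b
      rw [map_add, hw, add_zero, hz]
    · show Ideal.Quotient.mk 𝔭 (z + w) = χ b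
      rw [map_add, hwy, add_sub_cancel]
  refine ⟨(AlgEquiv.ofInjective Φ hΦ).symm.toAlgHom.comp ((g₀.prod χ).codRestrict Φ.range hg), AlgHom.ext fun b => ?_⟩
  exact congrArg (fun y : Φ.range => y.1.1) ((AlgEquiv.ofInjective Φ hΦ).apply_symm_apply ((g₀.prod χ).codRestrict Φ.range hg b))

/-- Flatness and smoothness of the closed fibre give adic formal smoothness. -/
theorem isAdicFormallySmooth_of_flat [Module.Flat A B] [IsRegularLocalRing (B ⧸ (maximalIdeal A).map (algebraMap A B))]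
    (H : FibreLifts A B) : CAlgX.IsAdicFormallySmooth A B (maximalIdeal B) := by
  refine Groth.Agent.S9316.result.mpr ?_
  intro C _ _ _ _ _ J hJ hlen _ u _ _
  have hkillJ : ∀ c ∈ maximalIdeal C, ∀ j ∈ J, c * j = 0 := by
    haveI : IsSimpleModule C J := Module.length_eq_one_iff.1 hlen
    intro c hc j hj
    have h1 : maximalIdeal C ≤ (⊥ : Ideal C).jacobson := IsLocalRing.maximalIdeal_le_jacobson _
    have h2 : maximalIdeal C • J = ⊥ := by
      rcases IsSimpleOrder.eq_bot_or_eq_top (maximalIdeal C • (⊤ : Submodule C J)) with h | h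
      · rw [eq_bot_iff]
        refine Submodule.smul_le.2 fun r hr y hy => ?_
        have h3 : r • (⟨y, hy⟩ : J) ∈ (⊥ : Submodule C J) := h ▸ Submodule.smul_mem_smul hr Submodule.mem_top
        simpa using congrArg Subtype.val ((Submodule.mem_bot C).1 h3)
      · exact absurd (Submodule.eq_bot_of_le_smul_of_le_jacobson_bot (maximalIdeal C) ⊤ (IsNoetherian.noetherian _) h.ge h1)
          (IsSimpleModule.nontrivial C J |> fun _ => top_ne_bot)
    have h3 : c * j ∈ maximalIdeal C • J := Submodule.smul_mem_smul hc hj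
    rw [h2] at h3
    exact (Submodule.mem_bot C).1 h3
  obtain ⟨e, he⟩ := (IsArtinianRing.isNilpotent_jacobson_bot (R := C))
  have hCe : maximalIdeal C ^ e = ⊥ := by
    rw [← IsLocalRing.jacobson_eq_maximalIdeal ⊥ bot_ne_top]; exact he
  have hu : ∀ x ∈ maximalIdeal B ^ e, u x = 0 := by
    intro x hx
    have h1 : u.toRingHom x ∈ maximalIdeal (C ⧸ J) ^ e := by
      refine Ideal.pow_right_mono (((local_hom_TFAE u.toRingHom).out 0 2).1 ‹_›) e ?_
      rw [← Ideal.map_pow]
      exact Ideal.mem_map_of_mem _ hx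
    rw [← IsLocalRing.map_maximalIdeal_of_surjective (Ideal.Quotient.mk J) Ideal.Quotient.mk_surjective,
      ← Ideal.map_pow, hCe, Ideal.map_bot] at h1
    exact h1
  obtain ⟨d, ℓ, hℓ, hgen, hd, hsup⟩ := exists_params (A := A) (P := B)
  set I := Ideal.span (Set.range ℓ) ^ e with hI
  haveI : Module.Flat A (B ⧸ I) := flat_quotient_pow ℓ hℓ hgen hd e
  have hIe : I ≤ maximalIdeal B ^ e := Ideal.pow_right_mono (Ideal.span_le.2 (by rintro _ ⟨i, rfl⟩; exact hℓ i)) e
  let ū : (B ⧸ I) →ₐ[A] C ⧸ J := Ideal.Quotient.liftₐ I u fun x hx => hu x (hIe hx)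
  let P := AdicSmooth.pullbackAlg (Ideal.Quotient.mkₐ A J) ū
  let π : P →ₐ[A] B ⧸ I := AdicSmooth.pullSnd (Ideal.Quotient.mkₐ A J) ū
  have hπ : Function.Surjective π := AdicSmooth.pullSnd_surjective _ _ (Ideal.Quotient.mkₐ_surjective A J)
  have hker : ∀ y : P, π y = 0 → y.1.1 ∈ J := fun y hy => by
    have h1 : Ideal.Quotient.mk J y.1.1 = ū y.1.2 := y.2
    rw [show y.1.2 = 0 from hy, map_zero] at h1
    exact Ideal.Quotient.eq_zero_iff_mem.1 h1
  have hmA : ∀ a ∈ maximalIdeal A, algebraMap A C a ∈ maximalIdeal C := fun a ha => map_nonunit (algebraMap A C) a ha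
  have hkill : ∀ a ∈ maximalIdeal A, ∀ y : P, π y = 0 → a • y = 0 := fun a ha y hy => Subtype.ext (Prod.ext
    (by show a • y.1.1 = 0; rw [Algebra.smul_def]; exact hkillJ _ (hmA a ha) _ (hker y hy))
    (by show a • y.1.2 = 0; rw [show y.1.2 = 0 from hy, smul_zero]))
  obtain ⟨s, hs⟩ := exists_lift_extension π hπ hkill (AdicSmooth.mul_pullSnd_ker _ _ (fun x y hx hy => by
      have h1 : x * y ∈ J ^ 2 := by
        rw [pow_two]; exact Ideal.mul_mem_mul (Ideal.Quotient.eq_zero_iff_mem.1 hx) (Ideal.Quotient.eq_zero_iff_mem.1 hy)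
      rwa [hJ] at h1)) H (Ideal.Quotient.mkₐ A I) e (fun x hx => by
    rw [hsup] at hx
    obtain ⟨p, hp, q, hq, rfl⟩ := Submodule.mem_sup.1 (sup_pow_le _ _ e hx)
    rw [map_add, show Ideal.Quotient.mkₐ A I q = 0 from Ideal.Quotient.eq_zero_iff_mem.2 hq, add_zero]
    have h2 := Ideal.mem_map_of_mem (Ideal.Quotient.mk I) hp
    rw [Ideal.map_map] at h2
    exact h2)
  refine ⟨(AdicSmooth.pullFst (Ideal.Quotient.mkₐ A J) ū).comp s, AlgHom.ext fun b => ?_⟩
  refine ((AdicSmooth.mem_pullbackAlg _ _).1 (s b).2).trans ?_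
  show ū (π (s b)) = u b
  rw [show π (s b) = Ideal.Quotient.mk I b from AlgHom.congr_fun hs b]
  rfl

/-- Residue algebras of the base. -/
theorem exists_algebra_of_killed {k : Type u} [Field k] [Algebra A k] (hk : Function.Surjective (algebraMap A k))
    (E : Type u) [CommRing E] [Algebra A E] (hE : ∀ a ∈ maximalIdeal A, algebraMap A E a = 0) :
    ∃ _ : Algebra k E, IsScalarTower A k E := by
  have hker : RingHom.ker (algebraMap A k) ≤ RingHom.ker (algebraMap A E) := fun a ha => by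
    refine RingHom.mem_ker.2 (hE a ((IsLocalRing.mem_maximalIdeal a).2 fun hu => ?_))
    exact (hu.map (algebraMap A k)).ne_zero (RingHom.mem_ker.1 ha)
  let f := (algebraMap A k).liftOfSurjective hk ⟨algebraMap A E, hker⟩
  letI : Algebra k E := f.toAlgebra
  exact ⟨inferInstance, .of_algebraMap_eq fun a => (RingHom.liftOfRightInverse_comp_apply _ _ _ ⟨algebraMap A E, hker⟩ a).symm⟩

theorem includeRight_surjective_of_surjective {k : Type u} [Field k] [Algebra A k] (hk : Function.Surjective (algebraMap A k)) :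
    Function.Surjective (Algebra.TensorProduct.includeRight : B →ₐ[A] k ⊗[A] B) := by
  intro z
  induction z with
  | zero => exact ⟨0, map_zero _⟩
  | add a b ha hb => obtain ⟨x, rfl⟩ := ha; obtain ⟨y, rfl⟩ := hb; exact ⟨x + y, map_add _ _ _⟩
  | tmul c b =>
    obtain ⟨a, rfl⟩ := hk c
    exact ⟨a • b, by rw [Algebra.TensorProduct.includeRight_apply, TensorProduct.tmul_smul, TensorProduct.smul_tmul', Algebra.smul_def, mul_one]⟩

theorem isLocalRing_fibre {k : Type u} [Field k] [Algebra A k] (hk : Function.Surjective (algebraMap A k)) :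
    IsLocalRing (k ⊗[A] B) ∧
      (maximalIdeal B).map (Algebra.TensorProduct.includeRight : B →ₐ[A] k ⊗[A] B).toRingHom ≠ ⊤ := by
  obtain ⟨_, _⟩ := exists_algebra_of_killed hk (ResidueField B) fun a ha => by
    rw [IsScalarTower.algebraMap_apply A B (ResidueField B)]
    exact IsLocalRing.residue_eq_zero_iff _ |>.2 (map_nonunit (algebraMap A B) a ha)
  let f : k ⊗[A] B →ₐ[k] ResidueField B := Algebra.TensorProduct.lift (Algebra.ofId k _) (IsScalarTower.toAlgHom A B _) (fun _ _ => Commute.all _ _)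
  haveI : Nontrivial (k ⊗[A] B) := RingHom.domain_nontrivial f.toRingHom
  refine ⟨IsLocalRing.of_surjective' (Algebra.TensorProduct.includeRight : B →ₐ[A] k ⊗[A] B).toRingHom
    (includeRight_surjective_of_surjective hk), fun h => ?_⟩
  have h1 := congrArg (Ideal.map f.toRingHom) h
  rw [Ideal.map_map, Ideal.map_top] at h1
  have h2 : Ideal.map (f.toRingHom.comp (Algebra.TensorProduct.includeRight : B →ₐ[A] k ⊗[A] B).toRingHom) (maximalIdeal B) = ⊥ := by
    rw [Ideal.map_eq_bot_iff_le_ker]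
    intro b hb
    show f (1 ⊗ₜ b) = 0
    simp [f, IsLocalRing.residue_eq_zero_iff _ |>.2 hb]
  exact top_ne_bot (α := Ideal (ResidueField B)) (h1.symm.trans h2)

theorem maximalIdeal_fibre {k : Type u} [Field k] [Algebra A k] (hk : Function.Surjective (algebraMap A k))
    [IsLocalRing (k ⊗[A] B)] :
    (maximalIdeal B).map (Algebra.TensorProduct.includeRight : B →ₐ[A] k ⊗[A] B).toRingHom = maximalIdeal (k ⊗[A] B) :=
  IsLocalRing.map_maximalIdeal_of_surjective _ (includeRight_surjective_of_surjective hk)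

theorem fibreLifts_of_isAdicFormallySmooth {k : Type u} [Field k] [Algebra A k] (hk : Function.Surjective (algebraMap A k))
    [IsLocalRing (k ⊗[A] B)] (h : CAlgX.IsAdicFormallySmooth k (k ⊗[A] B) (maximalIdeal (k ⊗[A] B))) :
    FibreLifts A B := by
  intro E _ _ hE J hJ ψ hψ
  obtain ⟨_, _⟩ := exists_algebra_of_killed hk E hE
  obtain ⟨n, hn⟩ := hψ
  let ψ' : k ⊗[A] B →ₐ[k] E ⧸ J := Algebra.TensorProduct.lift (Algebra.ofId k _) ψ (fun _ _ => Commute.all _ _)
  obtain ⟨χ, hχ⟩ := h E J hJ ψ' ⟨n, fun x hx => by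
    rw [← maximalIdeal_fibre hk, ← Ideal.map_pow] at hx
    obtain ⟨y, hy, rfl⟩ := (Ideal.mem_map_iff_of_surjective _ (includeRight_surjective_of_surjective hk)).1 hx
    show ψ' (1 ⊗ₜ y) = 0
    simp [ψ', hn y hy]⟩
  refine ⟨(χ.restrictScalars A).comp Algebra.TensorProduct.includeRight, AlgHom.ext fun b => ?_⟩
  exact (AlgHom.congr_fun hχ (1 ⊗ₜ b)).trans (by simp [ψ'])

theorem adicFS_iff_geometricallyRegular {k R : Type u} [Field k] [CommRing R] [IsLocalRing R] [IsNoetherianRing R]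
    [Algebra k R] : CAlgX.IsAdicFormallySmooth k R (maximalIdeal R) ↔ CAlg.IsGeometricallyRegular k R := by
  refine ⟨fun h => (Groth.Agent.S4512.result h).1, fun h => ?_⟩
  obtain ⟨p, _⟩ := ExpChar.exists k
  exact (Groth.Agent.S4573.result p).mpr fun k' _ _ hfin _ => h k' hfin

/-- EGA 0_IV 19.7.1. -/
theorem isAdicFormallySmooth_iff {k : Type u} [Field k] [Algebra A k] (hk : Function.Surjective (algebraMap A k)) :
    CAlgX.IsAdicFormallySmooth A B (maximalIdeal B) ↔
      Module.Flat A B ∧ CAlg.IsGeometricallyRegular k (k ⊗[A] B) := by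
  haveI := (isLocalRing_fibre (B := B) hk).1
  have hsurj := includeRight_surjective_of_surjective (B := B) hk
  haveI : IsNoetherianRing (k ⊗[A] B) := isNoetherianRing_of_surjective _ _
    (Algebra.TensorProduct.includeRight : B →ₐ[A] k ⊗[A] B).toRingHom hsurj
  refine ⟨fun h => ⟨flat_of_isAdicFormallySmooth h, ?_⟩, fun ⟨hflat, hreg⟩ => ?_⟩
  · have h1 := Groth.Agent.S4535.result (A' := k) (⊥ : Ideal A) (maximalIdeal B) (⊥ : Ideal k)
      ⟨1, by simp⟩ ((Groth.Agent.S4537.result _).1 h)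
    rw [Ideal.map_bot, bot_sup_eq, maximalIdeal_fibre hk] at h1
    exact adicFS_iff_geometricallyRegular.1 ((Groth.Agent.S4537.result _).2 h1)
  · have hfs := adicFS_iff_geometricallyRegular.2 hreg
    haveI := AdicSmooth.isRegularLocalRing_of_adicFS hfs
    have hker : RingHom.ker (Algebra.TensorProduct.includeRight : B →ₐ[A] k ⊗[A] B).toRingHom =
        (maximalIdeal A).map (algebraMap A B) := by
      refine le_antisymm (fun b hb => ?_) (Ideal.map_le_iff_le_comap.2 fun a ha => ?_)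
      · obtain ⟨_, _⟩ := exists_algebra_of_killed hk (B ⧸ (maximalIdeal A).map (algebraMap A B)) fun a ha =>
          Ideal.Quotient.eq_zero_iff_mem.2 (Ideal.mem_map_of_mem _ ha)
        let f : k ⊗[A] B →ₐ[k] B ⧸ (maximalIdeal A).map (algebraMap A B) :=
          Algebra.TensorProduct.lift (Algebra.ofId k _) (Ideal.Quotient.mkₐ A _) (fun _ _ => Commute.all _ _)
        have h0 : (Algebra.TensorProduct.includeRight : B →ₐ[A] k ⊗[A] B) b = 0 := hb
        have h1 : f ((Algebra.TensorProduct.includeRight : B →ₐ[A] k ⊗[A] B) b) = 0 := by rw [h0]; exact map_zero f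
        refine Ideal.Quotient.eq_zero_iff_mem.1 (Eq.trans ?_ h1)
        rw [Algebra.TensorProduct.includeRight_apply]
        exact (((Algebra.TensorProduct.lift_tmul _ _ _ _ _).trans (by rw [map_one]; rfl)).trans (one_mul _)).symm
      · show (1 : k) ⊗ₜ[A] algebraMap A B a = 0
        have h1 : algebraMap A k a = 0 := by
          by_contra hne
          obtain ⟨c, hc⟩ := hk (algebraMap A k a)⁻¹
          have h2 : IsUnit (1 - a * c) := by
            refine (IsLocalRing.isUnit_or_isUnit_of_add_one (a := a * c) (b := 1 - a * c) (by ring)).resolve_left ?_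
            exact fun hu => (IsLocalRing.mem_maximalIdeal a).1 ha (isUnit_of_mul_isUnit_left hu)
          refine (h2.map (algebraMap A k)).ne_zero ?_
          rw [map_sub, map_mul, hc, mul_inv_cancel₀ hne, map_one, sub_self]
        rw [Algebra.algebraMap_eq_smul_one, ← TensorProduct.smul_tmul, Algebra.smul_def, h1, zero_mul, TensorProduct.zero_tmul]
    haveI : IsRegularLocalRing (B ⧸ (maximalIdeal A).map (algebraMap A B)) :=
      IsRegularLocalRing.of_ringEquiv ((RingHom.quotientKerEquivOfSurjective hsurj).symm.trans (Ideal.quotEquivOfEq hker))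
    exact isAdicFormallySmooth_of_flat (fibreLifts_of_isAdicFormallySmooth hk hfs)

end Groth.Agent.FSFlat3
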