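import Groth.Agent.Lib.FSFlat3.Forward
import Groth.Agent.Lib.FormalFib3.Basic

/-!
Regular homomorphisms and adic formal smoothness of the local homomorphisms.
-/

set_option autoImplicit false
set_option linter.style.haveILetI false

universe u

open IsLocalRing TensorProduct

namespace Groth.Agent.FSFlat3

variable {A B : Type u} [CommRing A] [CommRing B] [Algebra A B] [IsNoetherianRing A] [IsNoetherianRing B]
  (r : Ideal A) [r.IsPrime] (q : Ideal B) [q.IsPrime]
  [Algebra (Localization.AtPrime r) (Localization.AtPrime q)]
  [IsScalarTower A (Localization.AtPrime r) (Localization.AtPrime q)]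

omit [IsNoetherianRing A] [IsNoetherianRing B] in
theorem isLocalHom_of_tower (hr : r = q.comap (algebraMap A B)) :
    IsLocalHom (algebraMap (Localization.AtPrime r) (Localization.AtPrime q)) := by
  have h := Localization.localRingHom_unique r q (algebraMap A B) hr (j := algebraMap (Localization.AtPrime r) (Localization.AtPrime q))
    fun x => by rw [← IsScalarTower.algebraMap_apply, ← IsScalarTower.algebraMap_apply]
  rw [← h]
  exact Localization.isLocalHom_localRingHom _ _ _ hr

omit [IsNoetherianRing A] [IsNoetherianRing B] in
theorem nonempty_fibre_equiv (k' : Type u) [Field k'] [Algebra r.ResidueField k'] [Algebra A k']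
    [IsScalarTower A r.ResidueField k'] :
    Nonempty ((k' ⊗[r.ResidueField] (r.ResidueField ⊗[Localization.AtPrime r] Localization.AtPrime q)) ≃+*
      k' ⊗[A] Localization.AtPrime q) := by
  letI : Algebra (Localization.AtPrime r) k' := ((algebraMap r.ResidueField k').comp (algebraMap _ _)).toAlgebra
  haveI : IsScalarTower (Localization.AtPrime r) r.ResidueField k' := .of_algebraMap_eq fun _ => rfl
  haveI : IsScalarTower A (Localization.AtPrime r) k' := .of_algebraMap_eq fun x => by
    rw [IsScalarTower.algebraMap_apply A r.ResidueField k', IsScalarTower.algebraMap_apply A (Localization.AtPrime r) r.ResidueField]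
    rfl
  haveI := IsLocalization.tensorProduct_compatibleSMul r.primeCompl (Localization.AtPrime r) k' (Localization.AtPrime q)
  exact ⟨(Algebra.TensorProduct.cancelBaseChange (Localization.AtPrime r) r.ResidueField r.ResidueField k'
      (Localization.AtPrime q)).toRingEquiv.trans
    (Algebra.TensorProduct.equivOfCompatibleSMul A (Localization.AtPrime r) k' k' (Localization.AtPrime q)).toRingEquiv⟩

/-- Flatness plus geometrically regular fibre gives formal smoothness of the local homomorphism. -/
theorem isAdicFormallySmooth_localization [Module.Flat A B] (hr : r = q.comap (algebraMap A B))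
    (h : CAlg.IsGeometricallyRegular r.ResidueField (r.Fiber B)) :
    CAlgX.IsAdicFormallySmooth (Localization.AtPrime r) (Localization.AtPrime q) (maximalIdeal (Localization.AtPrime q)) := by
  haveI := isLocalHom_of_tower r q hr
  haveI : IsNoetherianRing (Localization.AtPrime r) := IsLocalization.isNoetherianRing r.primeCompl _ inferInstance
  haveI : IsNoetherianRing (Localization.AtPrime q) := IsLocalization.isNoetherianRing q.primeCompl _ inferInstance
  haveI : Module.Flat B (Localization.AtPrime q) := IsLocalization.flat _ q.primeCompl
  haveI : Module.Flat A (Localization.AtPrime q) := Module.Flat.trans A B _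
  have hflat : Module.Flat (Localization.AtPrime r) (Localization.AtPrime q) :=
    (Module.flat_iff_of_isLocalization (Localization.AtPrime r) r.primeCompl _).2 inferInstance
  refine (isAdicFormallySmooth_iff (k := r.ResidueField) IsLocalRing.residue_surjective).2 ⟨hflat, fun k' _ _ hfin => ?_⟩
  letI : Algebra A k' := ((algebraMap r.ResidueField k').comp (algebraMap A _)).toAlgebra
  haveI : IsScalarTower A r.ResidueField k' := .of_algebraMap_eq fun _ => rfl
  haveI : IsRegularRing (k' ⊗[A] B) := @IsRegularRing.of_ringEquiv _ _ _ _
    (Algebra.TensorProduct.cancelBaseChange A r.ResidueField r.ResidueField k' B).toRingEquiv (h k' hfin)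
  haveI := FormalFib3.regular_tensor_atPrime (R := A) k' q
  obtain ⟨e⟩ := nonempty_fibre_equiv r q k'
  exact IsRegularRing.of_ringEquiv e.symm

/-- Formal smoothness of the local homomorphism gives regularity of the localized fibre. -/
theorem isRegularRing_tensor_localization_of_isAdicFormallySmooth (hr : r = q.comap (algebraMap A B))
    (h : CAlgX.IsAdicFormallySmooth (Localization.AtPrime r) (Localization.AtPrime q) (maximalIdeal (Localization.AtPrime q)))
    (k' : Type u) [Field k'] [Algebra r.ResidueField k'] [Algebra A k'] [IsScalarTower A r.ResidueField k']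
    (hfin : Module.Finite r.ResidueField k') :
    IsRegularRing (k' ⊗[A] Localization.AtPrime q) ∧ Module.Flat A (Localization.AtPrime q) := by
  haveI := isLocalHom_of_tower r q hr
  haveI : IsNoetherianRing (Localization.AtPrime r) := IsLocalization.isNoetherianRing r.primeCompl _ inferInstance
  haveI : IsNoetherianRing (Localization.AtPrime q) := IsLocalization.isNoetherianRing q.primeCompl _ inferInstance
  obtain ⟨hflat, hreg⟩ := (isAdicFormallySmooth_iff (k := r.ResidueField) IsLocalRing.residue_surjective).1 h
  obtain ⟨e⟩ := nonempty_fibre_equiv r q k'
  haveI := hflat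
  haveI : Module.Flat A (Localization.AtPrime r) := IsLocalization.flat _ r.primeCompl
  exact ⟨@IsRegularRing.of_ringEquiv _ _ _ _ e (hreg k' hfin), Module.Flat.trans A (Localization.AtPrime r) _⟩

end Groth.Agent.FSFlat3
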