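import Groth.Agent.Lib.FSFlat3.Quot
import Groth.Agent.Lib.AdicSmooth.Basic
import Groth.Agent.Lib.FlatDepth.J2Apps
import Mathlib.RingTheory.Polynomial.Quotient
import Mathlib.RingTheory.Filtration

/-!
Adically formally smooth local homomorphisms of Noetherian local rings are flat.
-/

set_option autoImplicit false
set_option linter.style.haveILetI false

universe u

open IsLocalRing TensorProduct

namespace Groth.Agent.FSFlat3

variable {A : Type u} [CommRing A] [IsLocalRing A] [IsNoetherianRing A]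

theorem exists_params {P : Type u} [CommRing P] [IsLocalRing P] [IsNoetherianRing P] [Algebra A P]
    [IsLocalHom (algebraMap A P)] [IsRegularLocalRing (P ⧸ (maximalIdeal A).map (algebraMap A P))] :
    ∃ (d : ℕ) (ℓ : Fin d → P), (∀ i, ℓ i ∈ maximalIdeal P) ∧
      Ideal.span (Set.range fun i => Ideal.Quotient.mk ((maximalIdeal A).map (algebraMap A P)) (ℓ i)) =
        maximalIdeal (P ⧸ (maximalIdeal A).map (algebraMap A P)) ∧
      (maximalIdeal (P ⧸ (maximalIdeal A).map (algebraMap A P))).spanFinrank = d ∧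
      maximalIdeal P = (maximalIdeal A).map (algebraMap A P) ⊔ Ideal.span (Set.range ℓ) := by
  set N := (maximalIdeal A).map (algebraMap A P)
  obtain ⟨x, hx⟩ := RegLoc.exists_fin_generators (P ⧸ N)
  choose ℓ hℓ using fun i => Ideal.Quotient.mk_surjective (x i)
  have hloc : IsLocalHom (Ideal.Quotient.mk N) := IsLocalHom.of_surjective _ Ideal.Quotient.mk_surjective
  have hm : ∀ i, ℓ i ∈ maximalIdeal P := fun i => by
    by_contra h
    have h1 : x i ∈ maximalIdeal (P ⧸ N) := hx ▸ Ideal.subset_span (Set.mem_range_self i)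
    have h2 : IsUnit (x i) := hℓ i ▸ (IsLocalRing.notMem_maximalIdeal.1 h).map (Ideal.Quotient.mk N)
    exact (IsLocalRing.mem_maximalIdeal _).1 h1 h2
  have hfun : (fun i => Ideal.Quotient.mk N (ℓ i)) = x := funext hℓ
  refine ⟨_, ℓ, hm, by rw [hfun, hx], rfl, eq_sup_span ℓ ?_⟩
  rw [hfun, hx]
  exact (IsLocalRing.map_maximalIdeal_of_surjective _ Ideal.Quotient.mk_surjective).symm

theorem isRegularLocalRing_fibre_atPrime {R : Type u} [CommRing R] [Algebra A R] [IsNoetherianRing R]
    [IsRegularRing (R ⧸ (maximalIdeal A).map (algebraMap A R))] (q : Ideal R) [q.IsPrime]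
    (hq : (maximalIdeal A).map (algebraMap A R) ≤ q) :
    IsRegularLocalRing (Localization.AtPrime q ⧸ (maximalIdeal A).map (algebraMap A (Localization.AtPrime q))) := by
  set S := Localization.AtPrime q
  set N := (maximalIdeal A).map (algebraMap A R) with hN
  have hmap : (maximalIdeal A).map (algebraMap A S) = N.map (algebraMap R S) := by
    rw [hN, Ideal.map_map, ← IsScalarTower.algebraMap_eq]
  rw [hmap]
  haveI : IsLocalRing (S ⧸ N.map (algebraMap R S)) := by
    haveI : Nontrivial (S ⧸ N.map (algebraMap R S)) := Ideal.Quotient.nontrivial_iff.2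
      (ne_top_of_le_ne_top (maximalIdeal.isMaximal S).ne_top (by
        rw [← Localization.AtPrime.map_eq_maximalIdeal]; exact Ideal.map_mono hq))
    exact IsLocalRing.of_surjective' _ Ideal.Quotient.mk_surjective
  haveI : IsRegularRing (S ⧸ N.map (algebraMap R S)) :=
    FlatDepth.isRegularRing_of_isLocalization (Algebra.algebraMapSubmonoid (R ⧸ N) q.primeCompl)
  exact IsRegularLocalRing.of_isRegularRing_of_isLocalRing _

theorem isRegularRing_mvPolynomial_fibre (σ : Type u) [Finite σ] :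
    IsRegularRing (MvPolynomial σ A ⧸ (maximalIdeal A).map (algebraMap A (MvPolynomial σ A))) := by
  letI := Ideal.Quotient.field (maximalIdeal A)
  haveI : IsRegularRing (A ⧸ maximalIdeal A) := inferInstance
  exact IsRegularRing.of_ringEquiv (MvPolynomial.quotientEquivQuotientMvPolynomial (σ := σ) (maximalIdeal A)).toRingEquiv

variable {B : Type u} [CommRing B] [IsLocalRing B] [IsNoetherianRing B] [Algebra A B] [IsLocalHom (algebraMap A B)]

/-- The key estimate, through a flat local algebra with regular closed fibre. -/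
theorem image_eq_zero_of_model {S : Type u} [CommRing S] [IsLocalRing S] [IsNoetherianRing S] [Algebra A S]
    [IsLocalHom (algebraMap A S)] [Module.Flat A S]
    [IsRegularLocalRing (S ⧸ (maximalIdeal A).map (algebraMap A S))]
    (φ : S →ₐ[A] B) (hφ : (maximalIdeal S).map φ.toRingHom ≤ maximalIdeal B)
    (I : Ideal A) (M k : ℕ) (hk : I ⊓ maximalIdeal A ^ (M + k) ≤ maximalIdeal A ^ M * I)
    {n : ℕ} (b : Fin n → B) (i : Fin n → I) (p : Fin n → S)
    (hpb : ∀ j, φ (p j) - b j ∈ maximalIdeal B ^ M)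
    (hsum : ∑ j, (i j : A) • p j ∈ maximalIdeal S ^ (M + k + M)) :
    ∑ j, Ideal.Quotient.mk (maximalIdeal B ^ M) (b j) ⊗ₜ[A] i j = 0 := by
  obtain ⟨d, ℓ, hℓ, hgen, hd, hsup⟩ := exists_params (A := A) (P := S)
  set L := Ideal.span (Set.range ℓ) ^ M with hL
  set 𝔪e := maximalIdeal A ^ (M + k) with h𝔪e
  haveI : Module.Flat A (S ⧸ L) := flat_quotient_pow ℓ hℓ hgen hd M
  have hLB : ∀ x ∈ L, φ x ∈ maximalIdeal B ^ M := fun x hx => by
    have hx' : x ∈ maximalIdeal S ^ M := Ideal.pow_right_mono (Ideal.span_le.2 (by rintro _ ⟨i, rfl⟩; exact hℓ i)) M hx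
    refine Ideal.pow_right_mono hφ M ?_
    rw [← Ideal.map_pow]
    exact Ideal.mem_map_of_mem φ.toRingHom hx'
  have hbound : maximalIdeal S ^ (M + k + M) ≤ 𝔪e.map (algebraMap A S) ⊔ L := by
    rw [hsup, Ideal.map_pow]
    exact Ideal.sup_pow_add_le_pow_sup_pow
  let Q := S ⧸ L
  let f : I →ₗ[A] A ⧸ 𝔪e := (Submodule.mkQ 𝔪e).comp (Submodule.subtype I)
  let Y : Q ⊗[A] I := ∑ j, Ideal.Quotient.mk L (p j) ⊗ₜ[A] (i j : I)
  have hY : f.lTensor Q Y = 0 := by
    have e1 : f.lTensor Q Y = (∑ j, (i j : A) • Ideal.Quotient.mk L (p j)) ⊗ₜ[A] (Submodule.mkQ 𝔪e 1) := by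
      simp only [Y, map_sum, LinearMap.lTensor_tmul, TensorProduct.sum_tmul]
      refine Finset.sum_congr rfl fun j _ => ?_
      rw [TensorProduct.smul_tmul, ← map_smul, smul_eq_mul, mul_one]
      rfl
    rw [e1]
    obtain ⟨u, hu, v, hv, huv⟩ := Submodule.mem_sup.1 (hbound hsum)
    have e2 : ∑ j, (i j : A) • Ideal.Quotient.mk L (p j) = Ideal.Quotient.mk L u := by
      have h1 : Ideal.Quotient.mk L (∑ j, (i j : A) • p j) = Ideal.Quotient.mk L u := by
        rw [← huv, map_add, Ideal.Quotient.eq_zero_iff_mem.2 hv, add_zero]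
      rw [← h1, map_sum]
      rfl
    rw [e2]
    have : ∀ u ∈ 𝔪e.map (algebraMap A S), ∀ s : S,
        Ideal.Quotient.mk L (s * u) ⊗ₜ[A] (Submodule.mkQ 𝔪e 1) = 0 := by
      intro u hu
      refine Submodule.span_induction ?_ ?_ ?_ ?_ hu
      · rintro _ ⟨a, ha, rfl⟩ s
        rw [← Algebra.commutes, ← Algebra.smul_def, show Ideal.Quotient.mk L (a • s) = a • Ideal.Quotient.mk L s from rfl,
          TensorProduct.smul_tmul, ← map_smul, smul_eq_mul, mul_one,
          show Submodule.mkQ 𝔪e a = 0 from (Submodule.Quotient.mk_eq_zero _).2 ha, TensorProduct.tmul_zero]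
      · intro s; simp
      · intro a b _ _ ha hb s; rw [mul_add, map_add, TensorProduct.add_tmul, ha, hb, add_zero]
      · intro c a _ ha s; rw [smul_eq_mul, ← mul_assoc]; exact ha _
    simpa using this u hu 1
  obtain ⟨W, hW⟩ := (Module.Flat.lTensor_exact Q (LinearMap.exact_subtype_ker_map f) Y).1 hY
  let Φ : Q →ₗ[A] B ⧸ maximalIdeal B ^ M :=
    (Ideal.Quotient.liftₐ L ((Ideal.Quotient.mkₐ A (maximalIdeal B ^ M)).comp φ)
      (fun x hx => Ideal.Quotient.eq_zero_iff_mem.2 (hLB x hx))).toLinearMap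
  have hΦ : Φ.rTensor I Y = ∑ j, Ideal.Quotient.mk (maximalIdeal B ^ M) (b j) ⊗ₜ[A] i j := by
    simp only [Y, map_sum, LinearMap.rTensor_tmul]
    refine Finset.sum_congr rfl fun j _ => ?_
    congr 1
    exact Ideal.Quotient.eq.2 (hpb j)
  refine hΦ.symm.trans ?_
  rw [← hW]
  clear hW hΦ
  induction W with
  | zero => exact (congrArg _ (map_zero _)).trans (map_zero _)
  | add a b ha hb => exact ((congrArg _ (map_add _ _ _)).trans (map_add _ _ _)).trans ((congrArg₂ (· + ·) ha hb).trans (add_zero _))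
  | tmul x y =>
    rw [LinearMap.lTensor_tmul, LinearMap.rTensor_tmul, Submodule.subtype_apply]
    obtain ⟨⟨a, haI⟩, hy⟩ := y
    have ha : a ∈ maximalIdeal A ^ (M + k) := (Submodule.Quotient.mk_eq_zero _).1 (LinearMap.mem_ker.1 hy)
    have key : ∀ a ∈ maximalIdeal A ^ M * I, ∃ haI : a ∈ I, Φ x ⊗ₜ[A] (⟨a, haI⟩ : I) = 0 := by
      intro a ha
      refine Submodule.mul_induction_on ha (fun r hr s hs => ⟨I.mul_mem_left r hs, ?_⟩) fun a b ⟨ha, ha'⟩ ⟨hb, hb'⟩ => ⟨add_mem ha hb, ?_⟩
      · rw [show (⟨r * s, I.mul_mem_left r hs⟩ : I) = r • (⟨s, hs⟩ : I) from rfl, ← TensorProduct.smul_tmul]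
        obtain ⟨z, hz⟩ := Ideal.Quotient.mk_surjective (Φ x)
        rw [← hz, show r • Ideal.Quotient.mk (maximalIdeal B ^ M) z = Ideal.Quotient.mk _ (r • z) from rfl,
          Ideal.Quotient.eq_zero_iff_mem.2, TensorProduct.zero_tmul]
        rw [Algebra.smul_def]
        refine Ideal.mul_mem_right _ _ (Ideal.pow_right_mono (((local_hom_TFAE (algebraMap A B)).out 0 2).1 ‹_›) M ?_)
        rw [← Ideal.map_pow]
        exact Ideal.mem_map_of_mem _ hr
      · rw [show (⟨a + b, add_mem ha hb⟩ : I) = ⟨a, ha⟩ + ⟨b, hb⟩ from rfl, TensorProduct.tmul_add, ha', hb', add_zero]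
    obtain ⟨_, h⟩ := key a (hk ⟨haI, ha⟩)
    exact h

theorem map_comap_pow_le {R S T : Type u} [CommRing R] [CommRing S] [CommRing T] (f : R →+* S) (g : R →+* T) (h : T →+* S)
    (hfg : f = h.comp g) (m : Ideal S) (n : ℕ) : ((m.comap f) ^ n).map f ≤ ((m.comap h) ^ n).map h := by
  subst hfg
  rw [Ideal.map_pow, Ideal.map_pow, ← Ideal.map_map, ← Ideal.comap_comap]
  exact Ideal.pow_right_mono (Ideal.map_mono Ideal.map_comap_le) n

open MvPolynomial in
theorem exists_finite_stage_mono {σ : Type u} (m : Ideal (MvPolynomial σ A)) (n : ℕ) (F G : Finset σ) (hFG : F ⊆ G)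
    {z : MvPolynomial σ A} (hz : z ∈ ((m.comap (rename (R := A) (Subtype.val : F → σ)).toRingHom) ^ n).map (rename (R := A) (Subtype.val : F → σ)).toRingHom) :
    z ∈ ((m.comap (rename (R := A) (Subtype.val : G → σ)).toRingHom) ^ n).map (rename (R := A) (Subtype.val : G → σ)).toRingHom :=
  map_comap_pow_le _ (rename (R := A) (fun x : F => (⟨x.1, hFG x.2⟩ : G))).toRingHom _
    (RingHom.ext fun y => by
      show rename _ y = rename _ (rename _ y)
      rw [rename_rename]; rfl) m n hz

open MvPolynomial in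
theorem exists_finite_stage {σ : Type u} (m : Ideal (MvPolynomial σ A)) (n : ℕ) {z : MvPolynomial σ A}
    (hz : z ∈ m ^ n) : ∃ F : Finset σ, z ∈ ((m.comap (rename (R := A) (Subtype.val : F → σ)).toRingHom) ^ n).map (rename (R := A) (Subtype.val : F → σ)).toRingHom := by
  classical
  have mono := fun n F G h z hz => exists_finite_stage_mono (A := A) m n F G h (z := z) hz
  have top : ∀ y : MvPolynomial σ A, ∃ F : Finset σ, ∃ y', rename (Subtype.val : F → σ) y' = y := fun y => by
    obtain ⟨F, y', h⟩ := exists_finset_rename y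
    exact ⟨F, y', h.symm⟩
  induction n generalizing z with
  | zero =>
    obtain ⟨F, y', rfl⟩ := top z
    exact ⟨F, Ideal.mem_map_of_mem _ (by simp)⟩
  | succ n ih =>
    rw [pow_succ] at hz
    refine Submodule.mul_induction_on hz (fun a ha b hb => ?_) fun a b ⟨F, hF⟩ ⟨G, hG⟩ =>
      ⟨F ∪ G, add_mem (mono _ _ _ Finset.subset_union_left _ hF) (mono _ _ _ Finset.subset_union_right _ hG)⟩
    obtain ⟨F, hF⟩ := ih ha
    obtain ⟨G, b', rfl⟩ := top b
    refine ⟨F ∪ G, ?_⟩
    have h1 := mono _ _ _ (Finset.subset_union_left (s₂ := G)) _ hF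
    have h2 : rename (Subtype.val : G → σ) b' ∈ ((m.comap (rename (R := A) (Subtype.val : G → σ)).toRingHom) ^ 1).map (rename (R := A) (Subtype.val : G → σ)).toRingHom :=
      Ideal.mem_map_of_mem _ (by rw [pow_one]; exact hb)
    have h3 := mono _ _ _ (Finset.subset_union_right (s₁ := F)) _ h2
    rw [pow_succ, Ideal.map_mul]
    rw [pow_one] at h3
    exact Ideal.mul_mem_mul h1 h3

/-- An adically formally smooth local homomorphism of Noetherian local rings is flat. -/
theorem flat_of_isAdicFormallySmooth (h : CAlgX.IsAdicFormallySmooth A B (maximalIdeal B)) : Module.Flat A B := by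
  classical
  refine Module.Flat.iff_lTensor_injective'.2 fun I => ?_
  rw [injective_iff_map_eq_zero]
  intro x hx
  haveI : Module.Finite B (B ⊗[A] I) := Module.Finite.base_change A B I
  rw [← Submodule.mem_bot B, ← Ideal.iInf_pow_smul_eq_bot_of_isLocalRing (M := B ⊗[A] I) (maximalIdeal B)
    (maximalIdeal.isMaximal B).ne_top, Submodule.mem_iInf]
  intro M
  rcases Nat.eq_zero_or_pos M with rfl | hM
  · simp [Ideal.one_eq_top]
  obtain ⟨k, hk⟩ := (maximalIdeal A).exists_pow_inf_eq_pow_smul (M := A) I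
  have hk' : I ⊓ maximalIdeal A ^ (M + k) ≤ maximalIdeal A ^ M * I := by
    have h1 := hk (M + k) (Nat.le_add_left k M)
    simp only [Nat.add_sub_cancel, smul_eq_mul, Ideal.mul_top] at h1
    rw [inf_comm, h1]
    exact Ideal.mul_mono_right inf_le_right
  set N := M + k + M with hN
  let P := MvPolynomial B A
  let π : P →ₐ[A] B := MvPolynomial.aeval id
  have hπ : Function.Surjective π := fun b => ⟨MvPolynomial.X b, MvPolynomial.aeval_X _ _⟩
  let m := (maximalIdeal B).comap π.toRingHom
  let C := P ⧸ m ^ N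
  let ρ : C →ₐ[A] B ⧸ maximalIdeal B ^ N := Ideal.Quotient.liftₐ (m ^ N) ((Ideal.Quotient.mkₐ A _).comp π) (fun y hy =>
    Ideal.Quotient.eq_zero_iff_mem.2 ((Ideal.le_comap_pow π.toRingHom N) hy))
  have hρ : Function.Surjective ρ := fun y => by
    obtain ⟨b, rfl⟩ := Ideal.Quotient.mk_surjective y
    obtain ⟨q, rfl⟩ := hπ b
    exact ⟨Ideal.Quotient.mk _ q, rfl⟩
  have hJ : IsNilpotent (RingHom.ker ρ.toRingHom) := by
    refine ⟨N, le_bot_iff.1 ?_⟩
    have h1 : RingHom.ker ρ.toRingHom ≤ m.map (Ideal.Quotient.mk (m ^ N)) := by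
      intro y hy
      obtain ⟨q, rfl⟩ := Ideal.Quotient.mk_surjective y
      refine Ideal.mem_map_of_mem _ ?_
      have hy' : π q ∈ maximalIdeal B ^ N := Ideal.Quotient.eq_zero_iff_mem.1 (RingHom.mem_ker.1 hy : ρ (Ideal.Quotient.mk _ q) = 0)
      show π q ∈ maximalIdeal B
      exact Ideal.pow_le_self (by omega : N ≠ 0) hy'
    refine (Ideal.pow_right_mono h1 N).trans ?_
    rw [← Ideal.map_pow, Ideal.map_quotient_self]
  let e := Ideal.quotientKerAlgEquivOfSurjective hρ
  obtain ⟨s, hs⟩ := AdicSmooth.exists_lift_of_isAdicFormallySmooth h (RingHom.ker ρ.toRingHom) hJ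
    (e.symm.toAlgHom.comp (Ideal.Quotient.mkₐ A (maximalIdeal B ^ N))) ⟨N, fun y hy => by
      show e.symm (Ideal.Quotient.mk (maximalIdeal B ^ N) y) = 0
      rw [Ideal.Quotient.eq_zero_iff_mem.2 hy, map_zero]⟩
  have hs' : ∀ b, ρ (s b) = Ideal.Quotient.mk _ b := fun b => by
    have h1 := congrArg e (AlgHom.congr_fun hs b)
    exact h1.trans (e.apply_symm_apply _)
  obtain ⟨T, hT⟩ := TensorProduct.exists_finset x
  obtain ⟨n, b, i, rfl⟩ : ∃ (n : ℕ) (b : Fin n → B) (i : Fin n → I), x = ∑ j, b j ⊗ₜ[A] i j :=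
    ⟨T.card, fun j => (T.equivFin.symm j).1.1, fun j => (T.equivFin.symm j).1.2, by
      rw [hT, ← Finset.sum_coe_sort, ← T.equivFin.symm.sum_comp]⟩
  choose p hp using fun j => Ideal.Quotient.mk_surjective (s (b j))
  have hz : ∑ j, (i j : A) • p j ∈ m ^ N := by
    rw [← Ideal.Quotient.eq_zero_iff_mem, map_sum]
    have h0 : ∑ j, (i j : A) • b j = 0 := by
      have h1 := congrArg (TensorProduct.rid A B) hx
      simpa [map_sum] using h1
    calc ∑ j, Ideal.Quotient.mk (m ^ N) ((i j : A) • p j) = ∑ j, (i j : A) • s (b j) :=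
          Finset.sum_congr rfl fun j _ => by rw [← hp j]; rfl
      _ = 0 := by rw [← map_zero s, ← h0, map_sum]; simp
  obtain ⟨F₀, hF₀⟩ := exists_finite_stage m N hz
  choose F p' hp' using fun j => (MvPolynomial.exists_finset_rename (p j))
  let G : Finset B := F₀ ∪ Finset.univ.biUnion F
  let R := MvPolynomial G A
  let r : R →ₐ[A] P := MvPolynomial.rename Subtype.val
  let q := (maximalIdeal B).comap (π.comp r).toRingHom
  haveI := isRegularRing_mvPolynomial_fibre (A := A) (↥G)
  have hq : (maximalIdeal A).map (algebraMap A R) ≤ q := Ideal.map_le_iff_le_comap.2 fun a ha => by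
    show π.comp r (algebraMap A R a) ∈ maximalIdeal B
    rw [AlgHom.commutes]
    exact map_nonunit (algebraMap A B) a ha
  let S := Localization.AtPrime q
  haveI := isRegularLocalRing_fibre_atPrime (A := A) q hq
  haveI : IsLocalHom (algebraMap A S) := by
    refine ((local_hom_TFAE (algebraMap A S)).out 0 2).2 ?_
    rw [IsScalarTower.algebraMap_eq A R S, ← Ideal.map_map, ← Localization.AtPrime.map_eq_maximalIdeal]
    exact Ideal.map_mono hq
  haveI : Module.Flat R S := IsLocalization.flat S q.primeCompl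
  haveI : Module.Flat A S := Module.Flat.trans A R S
  have hu : ∀ y : q.primeCompl, IsUnit ((π.comp r) y) := fun y => IsLocalRing.notMem_maximalIdeal.1 y.2
  let φ : S →ₐ[A] B := IsLocalization.liftAlgHom (f := π.comp r) hu
  have hφr : ∀ y : R, φ (algebraMap R S y) = π (r y) := fun y => IsLocalization.lift_eq (g := (π.comp r).toRingHom) hu y
  have hφ : (maximalIdeal S).map φ.toRingHom ≤ maximalIdeal B := by
    rw [← Localization.AtPrime.map_eq_maximalIdeal, Ideal.map_map, Ideal.map_le_iff_le_comap]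
    intro y hy
    show φ (algebraMap R S y) ∈ maximalIdeal B
    rw [hφr]
    exact hy
  have hFG : ∀ j, F j ⊆ G := fun j => (Finset.subset_biUnion_of_mem F (Finset.mem_univ j)).trans Finset.subset_union_right
  let pG : Fin n → R := fun j => MvPolynomial.rename (fun y : F j => (⟨y.1, hFG j y.2⟩ : G)) (p' j)
  have hpG : ∀ j, r (pG j) = p j := fun j => by
    rw [hp' j]; exact MvPolynomial.rename_rename _ _ _
  have hmem : ∑ j, (i j : A) • pG j ∈ q ^ N := by
    have hG := exists_finite_stage_mono m N F₀ G Finset.subset_union_left hF₀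
    have e1 : r (∑ j, (i j : A) • pG j) = ∑ j, (i j : A) • p j := by simp [map_sum, ← hpG]
    have e2 := Ideal.mem_map_of_mem (MvPolynomial.killCompl (R := A) (Subtype.val_injective : Function.Injective (Subtype.val : G → B))).toRingHom (e1.symm ▸ hG)
    rw [Ideal.map_map] at e2
    have e3 : ((MvPolynomial.killCompl (R := A) (Subtype.val_injective : Function.Injective (Subtype.val : G → B))).toRingHom.comp
        (MvPolynomial.rename (R := A) (Subtype.val : G → B)).toRingHom) = RingHom.id _ :=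
      RingHom.ext fun y => MvPolynomial.killCompl_rename_app _ y
    rw [e3, Ideal.map_id] at e2
    have e4 : ∀ y : R, MvPolynomial.killCompl (R := A) (Subtype.val_injective : Function.Injective (Subtype.val : G → B)) (r y) = y :=
      fun y => MvPolynomial.killCompl_rename_app _ y
    have e5 : MvPolynomial.killCompl (R := A) (Subtype.val_injective : Function.Injective (Subtype.val : G → B)) (r (∑ j, (i j : A) • pG j)) ∈ q ^ N := e2
    rw [e4] at e5
    exact e5
  have key := image_eq_zero_of_model φ hφ I M k hk' b i (fun j => algebraMap R S (pG j)) (fun j => by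
      rw [hφr, hpG]
      have h1 := hs' (b j)
      rw [← hp j] at h1
      exact Ideal.pow_le_pow_right (by omega) (Ideal.Quotient.eq.1 h1)) (by
    have h1 : algebraMap R S (∑ j, (i j : A) • pG j) ∈ maximalIdeal S ^ N := by
      rw [← Localization.AtPrime.map_eq_maximalIdeal, ← Ideal.map_pow]; exact Ideal.mem_map_of_mem _ hmem
    rw [map_sum] at h1
    convert h1 using 2 with j
    exact ((IsScalarTower.toAlgHom A R S).toLinearMap.map_smul _ _).symm)
  let qM : B →ₗ[A] B ⧸ maximalIdeal B ^ M := (Ideal.Quotient.mkₐ A _).toLinearMap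
  have hker := rTensor_exact I (f := ((maximalIdeal B ^ M).restrictScalars A).subtype) (g := qM)
    (fun y => by simp [qM, Ideal.Quotient.eq_zero_iff_mem]) Ideal.Quotient.mk_surjective
  obtain ⟨W, hW⟩ := (hker (∑ j, b j ⊗ₜ[A] i j)).1 (by rw [map_sum]; exact key)
  rw [← hW]
  clear hW
  induction W with
  | zero => simp
  | add a b ha hb => rw [map_add]; exact add_mem ha hb
  | tmul y z =>
    rw [LinearMap.rTensor_tmul, show ((maximalIdeal B ^ M).restrictScalars A).subtype y ⊗ₜ[A] z = (y : B) • ((1 : B) ⊗ₜ[A] z) by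
      rw [TensorProduct.smul_tmul', smul_eq_mul, mul_one]; rfl]
    exact Submodule.smul_mem_smul y.2 Submodule.mem_top

end Groth.Agent.FSFlat3
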