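import Groth.Agent.Lib.GrVal.Order
import Groth.Agent.Lib.FlatH4.LocCrit
import Groth.Agent.Lib.RegLoc.Sop

/-!
Lifts of regular parameters of the closed fibre have flat power quotients.
-/

set_option autoImplicit false
set_option linter.style.haveILetI false

universe u

open IsLocalRing TensorProduct MvPolynomial

namespace Groth.Agent.FSFlat3

variable {A P : Type u} [CommRing A] [IsLocalRing A] [IsNoetherianRing A]
  [CommRing P] [IsLocalRing P] [IsNoetherianRing P] [Algebra A P] [IsLocalHom (algebraMap A P)]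


variable {d : ℕ} (ℓ : Fin d → P)

theorem map_le_maximal : (Ideal.map (algebraMap A P) (maximalIdeal A)) ≤ maximalIdeal P := by
  exact ((local_hom_TFAE (algebraMap A P)).out 0 2).1 ‹_›

theorem eq_sup_span (hgen : Ideal.span (Set.range fun i => Ideal.Quotient.mk (Ideal.map (algebraMap A P) (maximalIdeal A)) (ℓ i)) =
    (maximalIdeal P).map (Ideal.Quotient.mk (Ideal.map (algebraMap A P) (maximalIdeal A)))) :
    maximalIdeal P = (Ideal.map (algebraMap A P) (maximalIdeal A)) ⊔ Ideal.span (Set.range ℓ) := by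
  have h := congrArg (Ideal.comap (Ideal.Quotient.mk (Ideal.map (algebraMap A P) (maximalIdeal A)))) hgen
  rw [show (Set.range fun i => Ideal.Quotient.mk (Ideal.map (algebraMap A P) (maximalIdeal A)) (ℓ i)) = (Ideal.Quotient.mk (Ideal.map (algebraMap A P) (maximalIdeal A))) '' Set.range ℓ from
    Set.range_comp _ _, ← Ideal.map_span, Ideal.comap_map_of_surjective _ Ideal.Quotient.mk_surjective,
    Ideal.comap_map_of_surjective _ Ideal.Quotient.mk_surjective, ← RingHom.ker_eq_comap_bot, Ideal.mk_ker,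
    sup_eq_left.2 (map_le_maximal (A := A) (P := P))] at h
  rw [sup_comm]
  exact h.symm

theorem inf_pow_le_step [IsRegularLocalRing (P ⧸ (Ideal.map (algebraMap A P) (maximalIdeal A)))]
    (hgen : Ideal.span (Set.range fun i => Ideal.Quotient.mk (Ideal.map (algebraMap A P) (maximalIdeal A)) (ℓ i)) = maximalIdeal (P ⧸ (Ideal.map (algebraMap A P) (maximalIdeal A))))
    (hd : (maximalIdeal (P ⧸ (Ideal.map (algebraMap A P) (maximalIdeal A)))).spanFinrank = d) (M : ℕ) :
    (Ideal.map (algebraMap A P) (maximalIdeal A)) ⊓ Ideal.span (Set.range ℓ) ^ M ≤ (Ideal.map (algebraMap A P) (maximalIdeal A)) * Ideal.span (Set.range ℓ) ^ M ⊔ Ideal.span (Set.range ℓ) ^ (M + 1) := by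
  rintro z ⟨hz, hzL⟩
  obtain ⟨F, hF, rfl⟩ := QReg.exists_homogeneous_of_mem_pow (f := ℓ) hzL
  have hq := GrVal.quasiRegular (fun i => Ideal.Quotient.mk (Ideal.map (algebraMap A P) (maximalIdeal A)) (ℓ i)) hgen hd M (MvPolynomial.map (Ideal.Quotient.mk (Ideal.map (algebraMap A P) (maximalIdeal A))) F) (hF.map _) (by
    rw [show MvPolynomial.eval (fun i => Ideal.Quotient.mk (Ideal.map (algebraMap A P) (maximalIdeal A)) (ℓ i)) (MvPolynomial.map (Ideal.Quotient.mk (Ideal.map (algebraMap A P) (maximalIdeal A))) F) =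
      Ideal.Quotient.mk (Ideal.map (algebraMap A P) (maximalIdeal A)) (MvPolynomial.eval ℓ F) from (MvPolynomial.map_eval (Ideal.Quotient.mk (Ideal.map (algebraMap A P) (maximalIdeal A))) ℓ F).symm,
      Ideal.Quotient.eq_zero_iff_mem.2 hz]
    exact zero_mem _)
  have hc : ∀ e, F.coeff e ∈ (Ideal.map (algebraMap A P) (maximalIdeal A)) ⊔ Ideal.span (Set.range ℓ) := fun e => by
    have h2 := hq e
    rw [coeff_map, show (Set.range fun i => Ideal.Quotient.mk (Ideal.map (algebraMap A P) (maximalIdeal A)) (ℓ i)) = (Ideal.Quotient.mk (Ideal.map (algebraMap A P) (maximalIdeal A))) '' Set.range ℓ from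
      Set.range_comp _ _, ← Ideal.map_span, ← Ideal.mem_comap,
      Ideal.comap_map_of_surjective _ Ideal.Quotient.mk_surjective, ← RingHom.ker_eq_comap_bot, Ideal.mk_ker,
      sup_comm] at h2
    exact h2
  rw [pow_succ', ← Ideal.sup_mul, F.as_sum, map_sum]
  refine sum_mem fun e he => ?_
  rw [eval_monomial]
  refine Ideal.mul_mem_mul (hc e) ?_
  have he' : e.degree = M := by
    by_contra hne; exact mem_support_iff.1 he (hF.coeff_eq_zero hne)
  rw [← he', Finsupp.degree_apply, ← Finset.prod_pow_eq_pow_sum]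
  exact Ideal.prod_mem_prod fun i _ => Ideal.pow_mem_pow (Ideal.subset_span (Set.mem_range_self i)) _

theorem inf_pow_le_iterate {R : Type u} [CommRing R] (N L : Ideal R) (M : ℕ)
    (hstep : ∀ k, N ⊓ L ^ k ≤ N * L ^ k ⊔ L ^ (k + 1)) (t : ℕ) : N ⊓ L ^ M ≤ N * L ^ M ⊔ L ^ (M + t) := by
  induction t with
  | zero => exact le_sup_of_le_right inf_le_right
  | succ t ih =>
    intro z hz
    obtain ⟨a, ha, b, hb, rfl⟩ := Submodule.mem_sup.1 (ih hz)
    have hb' : b ∈ N := (Ideal.add_mem_iff_right _ (Ideal.mul_le_left ha)).1 (Submodule.mem_inf.1 hz).1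
    refine add_mem (Ideal.mem_sup_left ha) ?_
    exact (sup_le_sup (Ideal.mul_mono_right (Ideal.pow_le_pow_right (Nat.le_add_right M t))) le_rfl :
      N * L ^ (M + t) ⊔ L ^ (M + t + 1) ≤ N * L ^ M ⊔ L ^ (M + (t + 1))) (hstep (M + t) (Submodule.mem_inf.2 ⟨hb', hb⟩))

theorem inf_pow_le [IsRegularLocalRing (P ⧸ (Ideal.map (algebraMap A P) (maximalIdeal A)))]
    (hℓ : ∀ i, ℓ i ∈ maximalIdeal P)
    (hgen : Ideal.span (Set.range fun i => Ideal.Quotient.mk (Ideal.map (algebraMap A P) (maximalIdeal A)) (ℓ i)) = maximalIdeal (P ⧸ (Ideal.map (algebraMap A P) (maximalIdeal A))))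
    (hd : (maximalIdeal (P ⧸ (Ideal.map (algebraMap A P) (maximalIdeal A)))).spanFinrank = d) (M : ℕ) :
    (Ideal.map (algebraMap A P) (maximalIdeal A)) ⊓ Ideal.span (Set.range ℓ) ^ M ≤ (Ideal.map (algebraMap A P) (maximalIdeal A)) * Ideal.span (Set.range ℓ) ^ M := by
  set L := Ideal.span (Set.range ℓ) with hL
  set J := (Ideal.map (algebraMap A P) (maximalIdeal A)) * L ^ M with hJ
  have key : ∀ t : ℕ, Ideal.map (algebraMap A P) (maximalIdeal A) ⊓ L ^ M ≤ J ⊔ L ^ (M + t) :=
    inf_pow_le_iterate _ _ M (fun k => inf_pow_le_step ℓ hgen hd k)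
  intro z hz
  have hJtop : J ≠ ⊤ := ne_top_of_le_ne_top (maximalIdeal.isMaximal P).ne_top
    (Ideal.mul_le_left.trans (map_le_maximal (A := A) (P := P)))
  haveI : Nontrivial (P ⧸ J) := Ideal.Quotient.nontrivial_iff.2 hJtop
  haveI : IsLocalRing (P ⧸ J) := IsLocalRing.of_surjective' _ Ideal.Quotient.mk_surjective
  have hmap : (maximalIdeal P).map (Ideal.Quotient.mk J) ≤ maximalIdeal (P ⧸ J) := by
    refine IsLocalRing.le_maximalIdeal fun htop => (maximalIdeal.isMaximal P).ne_top ?_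
    rw [← top_le_iff, ← Ideal.comap_top (f := Ideal.Quotient.mk J), ← htop,
      Ideal.comap_map_of_surjective _ Ideal.Quotient.mk_surjective, ← RingHom.ker_eq_comap_bot, Ideal.mk_ker]
    exact sup_le le_rfl (IsLocalRing.le_maximalIdeal hJtop)
  rw [← Ideal.Quotient.eq_zero_iff_mem, ← Ideal.mem_bot,
    ← Ideal.iInf_pow_eq_bot_of_isLocalRing (maximalIdeal (P ⧸ J)) (maximalIdeal.isMaximal _).ne_top, Submodule.mem_iInf]
  intro t
  obtain ⟨a, ha, b, hb, rfl⟩ := Submodule.mem_sup.1 (key t hz)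
  rw [map_add, Ideal.Quotient.eq_zero_iff_mem.2 ha, zero_add]
  have hLm : L ≤ maximalIdeal P := Ideal.span_le.2 (by rintro _ ⟨i, rfl⟩; exact hℓ i)
  have hb' : b ∈ maximalIdeal P ^ t :=
    (Ideal.pow_le_pow_right (Nat.le_add_left t M)) (Ideal.pow_right_mono hLm _ hb)
  exact Ideal.pow_right_mono hmap t (by rw [← Ideal.map_pow]; exact Ideal.mem_map_of_mem _ hb')

theorem flat_quotient_pow [Module.Flat A P] [IsRegularLocalRing (P ⧸ (Ideal.map (algebraMap A P) (maximalIdeal A)))]
    (hℓ : ∀ i, ℓ i ∈ maximalIdeal P)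
    (hgen : Ideal.span (Set.range fun i => Ideal.Quotient.mk (Ideal.map (algebraMap A P) (maximalIdeal A)) (ℓ i)) = maximalIdeal (P ⧸ (Ideal.map (algebraMap A P) (maximalIdeal A))))
    (hd : (maximalIdeal (P ⧸ (Ideal.map (algebraMap A P) (maximalIdeal A)))).spanFinrank = d) (M : ℕ) :
    Module.Flat A (P ⧸ Ideal.span (Set.range ℓ) ^ M) := by
  set L := Ideal.span (Set.range ℓ) ^ M with hL
  refine FlatH4.flat_of_le_jacobson (S := P) (maximalIdeal A)
    ((map_le_maximal (A := A) (P := P)).trans (IsLocalRing.maximalIdeal_le_jacobson _)) ?_ ?_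
  · let 𝔪 : Submodule A A := maximalIdeal A
    let q : P →ₗ[A] P ⧸ L := (Ideal.Quotient.mkₐ A L).toLinearMap
    let ι : L.restrictScalars A →ₗ[A] P := (L.restrictScalars A).subtype
    let μ : P ⊗[A] 𝔪 →ₗ[A] P := (TensorProduct.rid A P).toLinearMap ∘ₗ 𝔪.subtype.lTensor P
    rw [injective_iff_map_eq_zero]
    intro y hy
    obtain ⟨Y, rfl⟩ := LinearMap.rTensor_surjective 𝔪 (g := q) Ideal.Quotient.mk_surjective y
    have hcomm : ∀ z : P ⊗[A] 𝔪, (TensorProduct.rid A (P ⧸ L)) (𝔪.subtype.lTensor (P ⧸ L) (q.rTensor 𝔪 z)) = q (μ z) := by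
      intro z
      induction z with
      | zero => simp
      | add a b ha hb => simp only [map_add, ha, hb]
      | tmul a b => simp [μ]
    have hYL : μ Y ∈ L := Ideal.Quotient.eq_zero_iff_mem.1 (show q (μ Y) = 0 by rw [← hcomm]; erw [hy]; simp)
    have hμn : ∀ z : P ⊗[A] 𝔪, μ z ∈ (Ideal.map (algebraMap A P) (maximalIdeal A)) := by
      intro z
      induction z with
      | zero => simp
      | add a b ha hb => rw [map_add]; exact add_mem ha hb
      | tmul a b =>
        simp only [μ, LinearMap.comp_apply, LinearMap.lTensor_tmul, LinearEquiv.coe_coe, TensorProduct.rid_tmul,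
          Submodule.subtype_apply, Algebra.smul_def]
        exact Ideal.mul_mem_right _ _ (Ideal.mem_map_of_mem _ b.2)
    have hrange : ∀ z ∈ (Ideal.map (algebraMap A P) (maximalIdeal A)) * L, z ∈ (μ ∘ₗ ι.rTensor 𝔪).range := by
      intro z hz
      refine Submodule.mul_induction_on hz (fun r hr => ?_) fun a b ha hb => add_mem ha hb
      refine Submodule.span_induction (p := fun r _ => ∀ s ∈ L, r * s ∈ (μ ∘ₗ ι.rTensor 𝔪).range) ?_ ?_ ?_ ?_ hr
      · rintro _ ⟨a, ha, rfl⟩ s hs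
        exact ⟨(⟨s, hs⟩ : L.restrictScalars A) ⊗ₜ ⟨a, ha⟩, by simp [μ, ι, 𝔪, Algebra.smul_def]⟩
      · intro s _; simp
      · intro a b _ _ ha hb s hs; rw [add_mul]; exact add_mem (ha s hs) (hb s hs)
      · intro c a _ ha s hs
        rw [smul_eq_mul, mul_comm c a, mul_assoc]
        exact ha _ (L.mul_mem_left c hs)
    obtain ⟨W, hW⟩ := hrange _ (inf_pow_le ℓ hℓ hgen hd M ⟨hμn Y, hYL⟩)
    have hinj : Function.Injective μ :=
      (TensorProduct.rid A P).injective.comp (Module.Flat.lTensor_preserves_injective_linearMap _ 𝔪.injective_subtype)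
    have hYW : Y = ι.rTensor 𝔪 W := (hinj hW).symm
    rw [hYW, ← LinearMap.rTensor_comp_apply, show q ∘ₗ ι = 0 from LinearMap.ext fun z =>
      Ideal.Quotient.eq_zero_iff_mem.2 z.2]
    simp
  · letI := Ideal.Quotient.field (maximalIdeal A)
    exact inferInstance

end Groth.Agent.FSFlat3
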